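import Cfsg.Agent.N2.L2.Mat
import Cfsg.Agent.ClassicalGeometry.PSLTorus
import Cfsg.Agent.H281.Reg.Small
import Cfsg.Agent.S0251
import Cfsg.Agent.S0803

/-!
# N2 (S3519): the row `T = PSL₂(q)` (helper61)
-/

set_option autoImplicit false
set_option linter.unusedSectionVars false

namespace Cfsg.Agent.N2.L2

open Cfsg.Agent.FP3 Subgroup Cfsg.Agent.ClassicalGeometry

section gen

variable {T : Type*} [Group T] [Finite T] [IsSimpleGroup T] {A : Subgroup T} {Γ : Subgroup (MulAut T)}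

/-- a self-normalising abelian subgroup of prime power order (Burnside) -/
theorem not_ab (h : MI A Γ) {r : ℕ} [Fact r.Prime] (hP : IsPGroup r A) (hc : ∀ x ∈ A, ∀ y ∈ A, x * y = y * x) : False := by
  obtain ⟨S, hS⟩ := hP.exists_le_sylow
  have hAS : (S : Subgroup T) = A := by
    by_contra hne
    have hlt : A.subgroupOf (S : Subgroup T) < ⊤ :=
      lt_top_iff_ne_top.2 fun k => hne (le_antisymm (subgroupOf_eq_top.1 k) hS)
    have := S.isPGroup'.isNilpotent
    obtain ⟨x, hx1, hx2⟩ := SetLike.exists_of_lt (Group.normalizerCondition_of_isNilpotent _ hlt)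
    refine hx2 (mem_subgroupOf.2 ?_)
    rw [← mi_self h]
    refine mem_normalizer_fintype fun y hy => ?_
    exact mem_subgroupOf.1 ((mem_normalizer_iff.1 hx1 ⟨y, hS hy⟩).1 (mem_subgroupOf.2 hy))
  have hN : normalizer ((S : Subgroup T) : Set T) ≤ centralizer ((S : Subgroup T) : Set T) := by
    rw [hAS, mi_self h]
    exact fun x hx => mem_centralizer_iff.2 fun y hy => hc y hy x hx
  have h1 := MonoidHom.ker_transferSylow_isComplement' S hN
  rcases IsSimpleGroup.eq_bot_or_eq_top_of_normal _ (MonoidHom.normal_ker (MonoidHom.transferSylow S hN)) with k | k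
  · rw [k] at h1
    exact h.ne_top (hAS ▸ isComplement'_bot_left.1 h1)
  · rw [k] at h1
    exact h.ne_bot (hAS ▸ isComplement'_top_left.1 h1)

omit [IsSimpleGroup T] in
/-- the conjugates of `a` in `A` are conjugate under `B` -/
theorem cc_mul_le {B : Subgroup T} {a : T} (ha : a ∈ B) (h : ∀ g ∈ A, IsConj a g → ∃ b ∈ B, b * a * b⁻¹ = g) :
    cc A a * orderOf a ≤ Nat.card B := by
  have h1 : Nat.card B = (zpowers (⟨a, ha⟩ : B)).index * orderOf a := by
    rw [← (zpowers (⟨a, ha⟩ : B)).index_mul_card, Nat.card_zpowers, ← Subgroup.orderOf_coe]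
  rw [h1]
  refine Nat.mul_le_mul_right _ ?_
  choose f hf1 hf2 using fun g : {g : T // IsConj a g ∧ g ∈ A} => h g.1 g.2.2 g.2.1
  refine Nat.card_le_card_of_injective (fun g => ((⟨f g, hf1 g⟩ : B) : B ⧸ zpowers (⟨a, ha⟩ : B))) fun g g' e => ?_
  obtain ⟨i, hi⟩ := QuotientGroup.eq.1 e
  have h2 : a ^ i = (f g)⁻¹ * f g' := congrArg Subtype.val hi
  have h3 : f g' = f g * a ^ i := by rw [h2, mul_inv_cancel_left]
  apply Subtype.ext
  rw [← hf2 g, ← hf2 g', h3]
  group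

end gen

variable {F : Type*} [Field F] [Fintype F] [IsSimpleGroup (PL F)] {A : Subgroup (PL F)} {Γ : Subgroup (MulAut (PL F))}

/-- the elements of `A` of the order of `u` commute with `u` -/
theorem good_of_comm (h : MI A Γ) {u : PL F} (hu : u ∈ A) (h1 : u ≠ 1) (hn : Nz u)
    (hc : ∀ x ∈ A, orderOf x = orderOf u → Commute x u) : Good A := by
  have key : ∀ x ∈ A, orderOf x = orderOf u → ∀ w, Commute w u ↔ Commute w x := fun x hx ho w =>
    ⟨fun k => comm_of h1 k (hc x hx ho) (Or.inl hn), fun k => comm_of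
      (fun e => h1 (by rw [← orderOf_eq_one_iff, ← ho, e, orderOf_one])) k (hc x hx ho).symm (Or.inl (hn.conj ho))⟩
  have hi : Inv Γ (centralizer ({u} : Set (PL F))) := fun σ hσ w hw => by
    rw [mem_centralizer_singleton_iff] at hw ⊢
    refine (key (σ u) ((h.inv σ hσ u).2 hu) (σ.orderOf_eq u) (σ w)).2 ?_
    exact (Commute.map hw σ)
  have hN := mi_norm h hi (fun e => h1 (mem_bot.1 (e ▸ mem_centralizer_singleton_iff.2 rfl))) fun e => by
    have hA : A.Normal := ⟨fun x hx g => by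
      have k : Commute g x := comm_of h1 (mem_centralizer_singleton_iff.1 (e ▸ mem_top g))
        (mem_centralizer_singleton_iff.1 (e ▸ mem_top x)) (Or.inl hn)
      rwa [k.eq, mul_inv_cancel_right]⟩
    exact hA.eq_bot_or_eq_top.elim h.ne_bot h.ne_top
  refine good_of_one hu (fx_le_one fun t ht => ?_)
  rw [← hN]
  have ho : orderOf (t⁻¹ * u * t) = orderOf u := by
    have := (MulAut.conj t⁻¹).orderOf_eq u
    rwa [MulAut.conj_apply, inv_inv] at this
  refine mem_normalizer_iff.2 fun w => ?_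
  rw [mem_centralizer_singleton_iff, mem_centralizer_singleton_iff]
  refine (key _ ht ho w).trans ⟨fun k => ?_, fun k => ?_⟩
  · calc t * w * t⁻¹ * u = t * (w * (t⁻¹ * u * t)) * t⁻¹ := by group
      _ = u * (t * w * t⁻¹) := by rw [k.eq]; group
  · show w * (t⁻¹ * u * t) = t⁻¹ * u * t * w
    calc w * (t⁻¹ * u * t) = t⁻¹ * (t * w * t⁻¹ * u) * t := by group
      _ = _ := by rw [k]; group

theorem good_ab (h : MI A Γ) (hc : ∀ x ∈ A, ∀ y ∈ A, x * y = y * x) : Good A := by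
  by_cases k : ∃ u ∈ A, u * u ≠ 1
  · obtain ⟨u, hu, h2⟩ := k
    exact good_of_comm h hu (fun e => h2 (by rw [e, one_mul])) (Or.inl h2) fun x hx _ => hc x hx u hu
  · refine (not_ab h (r := 2) (fun x => ⟨1, Subtype.ext ?_⟩) hc).elim
    rw [pow_one, pow_two]
    exact by_contra fun e => k ⟨x, x.2, e⟩

theorem good_dih (h : MI A Γ) {k : ℕ} (e : A ≃* DihedralGroup k) : Good A := by
  have hk : k ≠ 0 := by
    rintro rfl
    have h1 : 0 < Nat.card A := Nat.card_pos
    rw [Nat.card_congr e.toEquiv, DihedralGroup.nat_card] at h1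
    omega
  by_cases h3 : 3 ≤ k
  · have : NeZero k := ⟨hk⟩
    have ho : orderOf (e.symm (DihedralGroup.r 1) : PL F) = k := by
      rw [Subgroup.orderOf_coe, MulEquiv.orderOf_eq, DihedralGroup.orderOf_r_one]
    have h2 : (e.symm (DihedralGroup.r 1) : PL F) * e.symm (DihedralGroup.r 1) ≠ 1 := fun z => by
      rw [← pow_two, ← orderOf_dvd_iff_pow_eq_one, ho] at z
      have := Nat.le_of_dvd (by norm_num) z
      omega
    refine good_of_comm h (e.symm (DihedralGroup.r 1)).2 (fun z => h2 (by rw [z, one_mul])) (Or.inl h2) fun x hx hox => ?_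
    have h4 : orderOf (e ⟨x, hx⟩) = k := by rw [MulEquiv.orderOf_eq, ← Subgroup.orderOf_coe, hox, ho]
    have h5 : Commute (e ⟨x, hx⟩) (DihedralGroup.r 1) := by
      generalize e ⟨x, hx⟩ = y at h4
      rcases y with i | i
      · show DihedralGroup.r i * DihedralGroup.r 1 = DihedralGroup.r 1 * DihedralGroup.r i
        rw [DihedralGroup.r_mul_r, DihedralGroup.r_mul_r, add_comm]
      · rw [DihedralGroup.orderOf_sr] at h4
        omega
    have h6 := h5.map e.symm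
    rw [MulEquiv.symm_apply_apply] at h6
    exact congrArg Subtype.val h6.eq
  · refine good_ab h fun x hx y hy => ?_
    have h4 : ∀ a b : DihedralGroup k, a * b = b * a := by
      obtain rfl | rfl : k = 1 ∨ k = 2 := by omega
      · decide
      · decide
    exact congrArg Subtype.val (e.injective (by rw [map_mul, map_mul, h4]) : (⟨x, hx⟩ * ⟨y, hy⟩ : A) = ⟨y, hy⟩ * ⟨x, hx⟩)

theorem nz_of_order (p : ℕ) [Fact p.Prime] [CharP F p] {u : PL F} (hu : orderOf u = p) : Nz u := by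
  by_cases h2 : p = 2
  · subst h2
    exact Or.inr (by exact_mod_cast CharP.cast_eq_zero F 2)
  · refine Or.inl fun k => h2 ?_
    rw [← pow_two, ← orderOf_dvd_iff_pow_eq_one, hu] at k
    exact (Nat.prime_dvd_prime_iff_eq Fact.out Nat.prime_two).1 k

theorem good_bor (p : ℕ) [Fact p.Prime] [CharP F p] (h : MI A Γ) (hp : p ∣ Nat.card A) (P : Sylow p (PL F))
    (hP : A ≤ normalizer ((P : Subgroup (PL F)) : Set (PL F))) : Good A := by
  obtain ⟨u, hu⟩ := exists_prime_orderOf_dvd_card' p hp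
  rw [← Subgroup.orderOf_coe] at hu
  have key : ∀ x ∈ A, orderOf x = p → x ∈ (P : Subgroup (PL F)) := fun x hx ho => by
    have h1 : IsPGroup p (zpowers x) := IsPGroup.of_card (n := 1) (by rw [Nat.card_zpowers, ho, pow_one])
    have h2 := h1.inf_normalizer_sylow P
    have h3 : x ∈ zpowers x ⊓ normalizer ((P : Subgroup (PL F)) : Set (PL F)) := ⟨mem_zpowers x, hP hx⟩
    exact (h2 ▸ h3).2
  have h1 : (u : PL F) ≠ 1 := fun e => (Fact.out : p.Prime).one_lt.ne (by rw [← hu, e, orderOf_one])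
  obtain ⟨z, hz, hzc⟩ := exists_cen P.isPGroup' (key u u.2 hu) h1
  exact good_of_comm h u.2 h1 (nz_of_order p hu) fun x hx ho => comm_of hz (hzc x (key x hx (ho.trans hu)))
    (hzc _ (key u u.2 hu)) (Or.inr ⟨nz_of_order p (ho.trans hu), nz_of_order p hu⟩)

theorem card_T (F : Type*) [Field F] [Fintype F] : Nat.card (PL F) * Nat.gcd 2 (Fintype.card F - 1) =
    Fintype.card F * (Fintype.card F - 1) * (Fintype.card F + 1) := by
  rw [PSL2Basic.card_PSL2_gcd, H158.PslTwoClass.sq_sub_one _ Fintype.card_pos, mul_assoc]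

theorem gcd_odd {q : ℕ} (h : Odd q) : Nat.gcd 2 (q - 1) = 2 := Nat.gcd_eq_left (Nat.Odd.sub_odd h odd_one).two_dvd

theorem gcd_even {q : ℕ} (h : Even q) (hq : 1 ≤ q) : Nat.gcd 2 (q - 1) = 1 := by
  rw [← Nat.coprime_iff_gcd_eq_one, Nat.coprime_two_left]
  exact Nat.Even.sub_odd hq h odd_one

omit [IsSimpleGroup (PL F)] in
/-- a real semisimple element of a normal subgroup -/
theorem good_hom (p : ℕ) [Fact p.Prime] [CharP F p] {H : Type*} [Group H] (ψ : H →* A) (hψ : Function.Injective ψ)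
    (hn : ψ.range.Normal) {a w : H} (hw : w * a * w⁻¹ = a⁻¹) {m : ℕ} (hm : orderOf a = m) (h3 : 3 ≤ m) (hp : ¬ p ∣ m)
    (hc : (Fintype.card F + 1) ^ 2 * Nat.card H ≤
      Nat.gcd 2 (Fintype.card F - 1) ^ 2 * m ^ 3 * (Fintype.card F * (Fintype.card F - 1))) : Good A := by
  have ho : orderOf (ψ a : PL F) = m := by rw [Subgroup.orderOf_coe, orderOf_injective ψ hψ, hm]
  have h2 : (ψ a : PL F) * ψ a ≠ 1 := fun z => by
    rw [← pow_two, ← orderOf_dvd_iff_pow_eq_one, ho] at z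
    have := Nat.le_of_dvd (by norm_num) z
    omega
  have hp' : (ψ a : PL F) ^ p ≠ 1 := fun z => by
    rw [← orderOf_dvd_iff_pow_eq_one, ho] at z
    rcases (Nat.dvd_prime Fact.out).1 z with k | k
    · omega
    · exact hp (k ▸ dvd_rfl)
  let B : Subgroup (PL F) := (A.subtype.comp ψ).range
  have hB : Nat.card B = Nat.card H :=
    (Nat.card_congr (MonoidHom.ofInjective (A.subtype_injective.comp hψ : Function.Injective (A.subtype.comp ψ))).toEquiv).symm
  have hBA : B ≤ A := by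
    rintro _ ⟨x, rfl⟩
    exact (ψ x).2
  have h4 : cc A (ψ a : PL F) * m ≤ Nat.card H := by
    rw [← ho, ← hB]
    refine cc_mul_le ⟨a, rfl⟩ fun g hg hcj => ?_
    have hgB : g ∈ B := by
      obtain ⟨b, hb, k⟩ := fus p (ψ a).2 hg h2 hp' hcj
      have k1 : (⟨b, hb⟩ * ⟨g, hg⟩ * ⟨b, hb⟩⁻¹ : A) ∈ ψ.range := k.elim (fun k => ⟨a, Subtype.ext k.symm⟩)
        fun k => ⟨a⁻¹, Subtype.ext (by rw [map_inv]; exact k.symm)⟩
      obtain ⟨x, hx⟩ := hn.conj_mem _ k1 ⟨b, hb⟩⁻¹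
      refine ⟨x, ?_⟩
      show (ψ x : PL F) = g
      rw [hx]
      show b⁻¹ * (b * g * b⁻¹) * b⁻¹⁻¹ = g
      group
    obtain ⟨b, hb, k | k⟩ := fus p (A := B) (a := (ψ a : PL F)) ⟨a, rfl⟩ hgB h2 hp' hcj
    · refine ⟨b⁻¹, B.inv_mem hb, ?_⟩
      rw [← k]
      group
    · refine ⟨b⁻¹ * ψ w, B.mul_mem (B.inv_mem hb) ⟨w, rfl⟩, ?_⟩
      have k2 : (ψ w : PL F) * ψ a * (ψ w : PL F)⁻¹ = (ψ a : PL F)⁻¹ := by
        have := congrArg (fun x => (ψ x : PL F)) hw
        simpa using this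
      calc b⁻¹ * ψ w * ψ a * (b⁻¹ * ψ w)⁻¹ = b⁻¹ * ((ψ w : PL F) * ψ a * (ψ w : PL F)⁻¹) * b := by group
        _ = g := by rw [k2, ← k]; group
  have h5 := cn_le p h2 hp'
  have h6 := card_T F
  have h7 : Nat.card H ≤ Nat.card A := hB ▸ card_le_of_le hBA
  have hd : 0 < Nat.gcd 2 (Fintype.card F - 1) := Nat.gcd_pos_of_pos_left _ (by norm_num)
  refine good_of_cc (ψ a).2 le_rfl le_rfl ?_
  generalize cn (ψ a : PL F) = c at h5
  generalize cc A (ψ a : PL F) = e at h4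
  generalize Nat.gcd 2 (Fintype.card F - 1) = d at h5 h6 hc hd
  generalize Fintype.card F * (Fintype.card F - 1) = s at h6 hc
  generalize Fintype.card F + 1 = q at h5 h6 hc
  refine Nat.le_of_mul_le_mul_right (c := (d * m) ^ 3) ?_ (by positivity)
  calc (c * e) ^ 3 * (d * m) ^ 3 = ((c * d) * (e * m)) ^ 3 := by ring
    _ ≤ (q * Nat.card H) ^ 3 := Nat.pow_le_pow_left (Nat.mul_le_mul h5 h4) 3
    _ = (q ^ 2 * Nat.card H) * (q * Nat.card H ^ 2) := by ring
    _ ≤ (d ^ 2 * m ^ 3 * s) * (q * Nat.card A ^ 2) :=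
      Nat.mul_le_mul hc (Nat.mul_le_mul_left _ (Nat.pow_le_pow_left h7 2))
    _ = (s * q) * (d ^ 2 * m ^ 3 * Nat.card A ^ 2) := by ring
    _ = _ := by rw [← h6]; ring

omit [IsSimpleGroup (PL F)] in
theorem good_equiv (p : ℕ) [Fact p.Prime] [CharP F p] {H : Type*} [Group H] (e : A ≃* H)
    {a w : H} (hw : w * a * w⁻¹ = a⁻¹) {m : ℕ} (hm : orderOf a = m) (h3 : 3 ≤ m) (hp : ¬ p ∣ m)
    (hc : (Fintype.card F + 1) ^ 2 * Nat.card H ≤
      Nat.gcd 2 (Fintype.card F - 1) ^ 2 * m ^ 3 * (Fintype.card F * (Fintype.card F - 1))) : Good A :=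
  good_hom p e.symm.toMonoidHom e.symm.injective
    (by rw [MonoidHom.range_eq_top.2 (show Function.Surjective e.symm.toMonoidHom from e.symm.surjective)]; infer_instance)
    hw hm h3 hp hc

theorem a4_comm : ∀ x y : alternatingGroup (Fin 4), x * x = 1 → y * y = 1 → x * y = y * x := by decide +kernel

theorem a4_ex : ∃ x : alternatingGroup (Fin 4), x ^ 2 = 1 ∧ x ≠ 1 := by decide +kernel

theorem good_A4 (h : MI A Γ) (e : A ≃* alternatingGroup (Fin 4)) : Good A := by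
  obtain ⟨u, h2, h1⟩ := a4_ex
  have ho : orderOf (e.symm u : PL F) = 2 := by
    rw [Subgroup.orderOf_coe, MulEquiv.orderOf_eq, orderOf_eq_prime h2 h1]
  by_cases hF : (2 : F) = 0
  · refine good_of_comm h (e.symm u).2 (fun z => by rw [z, orderOf_one] at ho; omega) (Or.inr hF) fun x hx hox => ?_
    have h3 : e ⟨x, hx⟩ * e ⟨x, hx⟩ = 1 := by
      rw [← pow_two, ← orderOf_dvd_iff_pow_eq_one, MulEquiv.orderOf_eq, ← Subgroup.orderOf_coe, hox, ho]
    have h4 : Commute (e ⟨x, hx⟩) u := a4_comm _ _ h3 (by rw [← pow_two, h2])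
    have h6 := h4.map e.symm
    rw [MulEquiv.symm_apply_apply] at h6
    exact congrArg Subtype.val h6.eq
  · have hodd := (PSL2Basic.two_ne_zero_iff_odd F).1 hF
    have h3 : cn (e.symm u : PL F) ≤ Fintype.card F + 1 := by
      rcases H853.Fx.card_cent_inv hodd ho with k | k
      · exact k.2.le.trans (by omega)
      · exact k.2.le
    have h4 : cc A (e.symm u : PL F) ≤ 3 := by
      rw [← H853.Fx.inv2_A4, ← H853.Fx.inv2_congr e]
      refine Nat.card_le_card_of_injective (fun g => (⟨⟨g.1, g.2.2⟩, ?_⟩ : {y : A // orderOf y = 2})) fun g g' k => ?_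
      · obtain ⟨t, ht⟩ := isConj_iff.1 g.2.1
        rw [← Subgroup.orderOf_coe]
        show orderOf g.1 = _
        rw [← ht]
        exact ((MulAut.conj t).orderOf_eq _).trans ho
      · exact Subtype.ext (congrArg (fun x => x.1.1) k)
    refine good_of_cc (e.symm u).2 h3 h4 ?_
    have h5 := card_T F
    have h6 : Nat.card A = 12 := by
      rw [Nat.card_congr e.toEquiv, Nat.card_eq_fintype_card]
      decide +kernel
    rw [gcd_odd hodd] at h5
    rw [h6]
    have hq : 1 < Fintype.card F := Fintype.one_lt_card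
    obtain ⟨r, hr⟩ := hodd
    obtain ⟨s, rfl⟩ : ∃ s, r = s + 1 := ⟨r - 1, by omega⟩
    rw [hr] at h5 ⊢
    rw [Nat.add_sub_cancel] at h5
    have h7 : Nat.card (PL F) = (2 * (s + 1) + 1) * (s + 1) * (2 * (s + 1) + 1 + 1) := by linarith
    rw [h7]
    nlinarith [Nat.zero_le s, Nat.zero_le (s ^ 2), Nat.zero_le (s ^ 3)]

theorem s4_ex : ∃ a w : Equiv.Perm (Fin 4), w * a * w⁻¹ = a⁻¹ ∧ a ^ 4 = 1 ∧ a ^ 2 ≠ 1 := by decide +kernel

theorem p_dvd (F : Type*) [Field F] [Fintype F] (p : ℕ) [Fact p.Prime] [CharP F p] : p ∣ Fintype.card F := by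
  obtain ⟨n, -, hn⟩ := FiniteField.card F p
  rw [hn]
  exact dvd_pow_self p n.ne_zero

omit [IsSimpleGroup (PL F)] in
theorem good_S4 (p : ℕ) [Fact p.Prime] [CharP F p] (e : A ≃* Equiv.Perm (Fin 4)) : Good A := by
  have h1 := (Cfsg.Agent.S0803.result (F := F) rfl).1 ⟨A, ⟨e⟩⟩
  have hodd : Odd (Fintype.card F) := by
    rw [← Nat.not_even_iff_odd]
    rintro ⟨r, hr⟩
    rw [hr, show (r + r) ^ 2 = 4 * r ^ 2 by ring] at h1
    omega
  obtain ⟨a, w, hw, h4, h2⟩ := s4_ex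
  have hm : orderOf a = 4 := orderOf_eq_prime_pow (p := 2) (n := 1) h2 h4
  refine good_equiv p e hw hm (by norm_num) (fun k => ?_) ?_
  · have h5 : p = 2 := (Nat.prime_dvd_prime_iff_eq Fact.out Nat.prime_two).1
      ((Fact.out : p.Prime).dvd_of_dvd_pow (show p ∣ 2 ^ 2 from k))
    exact (Nat.not_even_iff_odd.2 hodd) (even_iff_two_dvd.2 (h5 ▸ p_dvd F p))
  · have h6 : Nat.card (Equiv.Perm (Fin 4)) = 24 := by
      rw [Nat.card_eq_fintype_card]
      decide +kernel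
    rw [gcd_odd hodd, h6]
    have hq : 1 < Fintype.card F := Fintype.one_lt_card
    obtain ⟨s, hs⟩ : ∃ s, Fintype.card F = s + 2 := ⟨Fintype.card F - 2, by omega⟩
    rw [hs, show s + 2 - 1 = s + 1 from rfl]
    nlinarith [Nat.zero_le s]

theorem a5_five : ∃ a w : alternatingGroup (Fin 5), w * a * w⁻¹ = a⁻¹ ∧ a ^ 5 = 1 ∧ a ≠ 1 :=
  ⟨⟨c[0, 1, 2, 3, 4], Equiv.Perm.mem_alternatingGroup.2 (by decide)⟩,
    ⟨c[1, 4] * c[2, 3], Equiv.Perm.mem_alternatingGroup.2 (by decide)⟩, by decide +kernel⟩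

theorem a5_three : ∃ a w : alternatingGroup (Fin 5), w * a * w⁻¹ = a⁻¹ ∧ a ^ 3 = 1 ∧ a ≠ 1 :=
  ⟨⟨c[0, 1, 2], Equiv.Perm.mem_alternatingGroup.2 (by decide)⟩,
    ⟨c[1, 2] * c[3, 4], Equiv.Perm.mem_alternatingGroup.2 (by decide)⟩, by decide +kernel⟩

omit [IsSimpleGroup (PL F)] in
theorem good_A5 (p : ℕ) [Fact p.Prime] [CharP F p] (h4 : 4 ≤ Fintype.card F) (e : A ≃* alternatingGroup (Fin 5)) :
    Good A := by
  have h6 : Nat.card (alternatingGroup (Fin 5)) = 60 := by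
    rw [Nat.card_eq_fintype_card]
    decide +kernel
  by_cases h5 : p = 5
  · subst h5
    obtain ⟨a, w, hw, h3, h1⟩ := a5_three
    have : Fact (Nat.Prime 3) := ⟨Nat.prime_three⟩
    refine good_equiv 5 e hw (orderOf_eq_prime h3 h1) le_rfl (by norm_num) ?_
    have hodd : Odd (Fintype.card F) := by
      obtain ⟨n, -, hn⟩ := FiniteField.card F 5
      rw [hn]
      exact Odd.pow (by decide)
    have hq := Nat.le_of_dvd Fintype.card_pos (p_dvd F 5)
    rw [gcd_odd hodd, h6]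
    obtain ⟨s, hs⟩ : ∃ s, Fintype.card F = s + 5 := ⟨Fintype.card F - 5, by omega⟩
    rw [hs, show s + 5 - 1 = s + 4 from rfl]
    nlinarith [Nat.zero_le s]
  · obtain ⟨a, w, hw, h3, h1⟩ := a5_five
    have : Fact (Nat.Prime 5) := ⟨Nat.prime_five⟩
    refine good_equiv p e hw (orderOf_eq_prime h3 h1) (by norm_num)
      (fun k => h5 ((Nat.prime_dvd_prime_iff_eq Fact.out Nat.prime_five).1 k)) ?_
    have hd : 1 ≤ Nat.gcd 2 (Fintype.card F - 1) := Nat.gcd_pos_of_pos_left _ (by norm_num)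
    refine le_trans ?_ (Nat.mul_le_mul_right _ (Nat.mul_le_mul_right _ (Nat.pow_le_pow_left hd 2)))
    rw [h6]
    obtain ⟨s, hs⟩ : ∃ s, Fintype.card F = s + 4 := ⟨Fintype.card F - 4, by omega⟩
    rw [hs, show s + 4 - 1 = s + 3 from rfl]
    nlinarith [Nat.zero_le s]

theorem mono {x y : ℕ} (h1 : 1 ≤ y) (h : y ≤ x) : (x + 1) ^ 2 * (y * (y - 1)) ≤ (y + 1) ^ 2 * (x * (x - 1)) := by
  obtain ⟨y, rfl⟩ : ∃ z, y = z + 1 := ⟨y - 1, by omega⟩
  obtain ⟨c, rfl⟩ : ∃ c, x = y + 1 + c := ⟨x - (y + 1), by omega⟩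
  rw [Nat.add_sub_cancel, show y + 1 + c - 1 = y + c by omega]
  refine Nat.le.intro (k := c * (3 * (y + 1 + c) * (y + 1) + (y + 1 + c) + y)) ?_
  ring

omit [IsSimpleGroup (PL F)] in
/-- subfield subgroups -/
theorem good_sub (p : ℕ) [Fact p.Prime] [CharP F p] {K : Type*} [Field K] [Fintype K] {k : ℕ}
    (hk : Fintype.card K ^ k = Fintype.card F) (h3 : Fintype.card K ≠ 3) (ψ : PL K →* A) (hψ : Function.Injective ψ)
    (hn : ψ.range.Normal) : Good A := by
  have hq : 1 < Fintype.card F := Fintype.one_lt_card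
  have hq0 : 1 < Fintype.card K := Fintype.one_lt_card
  have hk0 : k ≠ 0 := by
    rintro rfl
    rw [pow_zero] at hk
    omega
  have hle : Fintype.card K ≤ Fintype.card F := hk ▸ Nat.le_self_pow hk0 _
  have hd : Nat.gcd 2 (Fintype.card K - 1) = Nat.gcd 2 (Fintype.card F - 1) ∧
      Nat.gcd 2 (Fintype.card K - 1) ∣ Fintype.card K + 1 ∧ 3 * Nat.gcd 2 (Fintype.card K - 1) ≤ Fintype.card K + 1 := by
    rcases Nat.even_or_odd (Fintype.card K) with h | h
    · rw [gcd_even h hq0.le, gcd_even (hk ▸ (Nat.even_pow.2 ⟨h, hk0⟩)) hq.le]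
      exact ⟨rfl, one_dvd _, by omega⟩
    · rw [gcd_odd h, gcd_odd (hk ▸ h.pow)]
      obtain ⟨r, hr⟩ := h
      exact ⟨rfl, ⟨r + 1, by omega⟩, by omega⟩
  obtain ⟨d1, ⟨m, hm⟩, d3⟩ := hd
  have hd : 0 < Nat.gcd 2 (Fintype.card K - 1) := Nat.gcd_pos_of_pos_left _ (by norm_num)
  obtain ⟨-, H, -, -, -, -, ⟨e⟩, -⟩ := PSLTorus.exists_psl_torus K
  have hm' : (Fintype.card K + 1) / Nat.gcd 2 (Fintype.card K - 1) = m := Nat.div_eq_of_eq_mul_right hd hm
  rw [hm'] at e
  have hm3 : 3 ≤ m := by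
    rw [hm, mul_comm 3] at d3
    exact Nat.le_of_mul_le_mul_left d3 hd
  have : NeZero m := ⟨by omega⟩
  refine good_hom p ψ hψ hn (a := e.symm (DihedralGroup.r 1)) (w := e.symm (DihedralGroup.sr 0)) ?_ (m := m) ?_ hm3 ?_ ?_
  · have h1 : (DihedralGroup.sr 0 * DihedralGroup.r 1 * (DihedralGroup.sr 0)⁻¹ : DihedralGroup m) =
        (DihedralGroup.r 1)⁻¹ := by simp
    have h2 := congrArg (fun x => (e.symm x : PL K)) h1
    simpa only [map_mul, map_inv, Subgroup.coe_mul, Subgroup.coe_inv] using h2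
  · rw [Subgroup.orderOf_coe, MulEquiv.orderOf_eq, DihedralGroup.orderOf_r_one]
  · intro h1
    have h2 : p ∣ Fintype.card K := (Fact.out : p.Prime).dvd_of_dvd_pow (hk ▸ p_dvd F p)
    have h4 : p ∣ Fintype.card K + 1 := hm ▸ h1.mul_left _
    exact (Fact.out : p.Prime).one_lt.ne' (Nat.dvd_one.1 ((Nat.dvd_add_right h2).1 h4))
  · have h1 := card_T K
    have h2 := mono hq0.le hle
    rw [← d1]
    refine Nat.le_of_mul_le_mul_right ?_ hd
    generalize Nat.gcd 2 (Fintype.card K - 1) = d at h1 hm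
    calc (Fintype.card F + 1) ^ 2 * Nat.card (PL K) * d
        = (Fintype.card F + 1) ^ 2 * (Fintype.card K * (Fintype.card K - 1)) * (Fintype.card K + 1) := by
          rw [mul_assoc, h1]; ring
      _ ≤ (Fintype.card K + 1) ^ 2 * (Fintype.card F * (Fintype.card F - 1)) * (Fintype.card K + 1) :=
          Nat.mul_le_mul_right _ h2
      _ = _ := by rw [hm]; ring

theorem normal_toPGL (K : Type*) [Field K] :
    (Matrix.ProjectiveSpecialLinearGroup.toPGL (n := Fin 2) (R := K)).range.Normal := by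
  have h1 : (Matrix.ProjectiveSpecialLinearGroup.toPGL (n := Fin 2) (R := K)).range =
      (Matrix.SpecialLinearGroup.toGL : SL2 K →* GL (Fin 2) K).range.map Matrix.ProjGenLinGroup.mk := by
    ext x
    constructor
    · rintro ⟨y, rfl⟩
      obtain ⟨Y, rfl⟩ := QuotientGroup.mk_surjective y
      exact ⟨_, ⟨Y, rfl⟩, rfl⟩
    · rintro ⟨_, ⟨Y, rfl⟩, rfl⟩
      exact ⟨QuotientGroup.mk Y, rfl⟩
  rw [h1, PSL2Basic.range_toGL]
  exact (MonoidHom.normal_ker _).map _ Matrix.ProjGenLinGroup.mk_surjective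

end Cfsg.Agent.N2.L2

namespace Cfsg.Agent.N2

open Cfsg.Agent.FP3 Cfsg.Agent.N2.L2

/-- **the row `PSL₂(q)`** -/
theorem as_psl2 (F : Type*) [Field F] [Fintype F] (h4 : 4 ≤ Fintype.card F) :
    ASRow (Matrix.ProjectiveSpecialLinearGroup (Fin 2) F) := by
  intro A Γ h
  have : IsSimpleGroup (PL F) :=
    Matrix.ProjectiveSpecialLinearGroup.rank_two_simple (by rw [Nat.card_eq_fintype_card]; omega)
  obtain ⟨p, hp⟩ := CharP.exists F
  have : Fact p.Prime := ⟨CharP.char_is_prime F p⟩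
  rcases H853.Fx.dickson (F := F) rfl p A with ⟨k, -, ⟨hc, -⟩ | ⟨⟨e⟩⟩⟩ | ⟨h1, P, hP⟩ | ⟨⟨e⟩⟩ | ⟨⟨e⟩⟩ | ⟨⟨e⟩⟩ |
    ⟨K, _, _, m, hm, ⟨⟨e⟩⟩ | ⟨⟨e⟩⟩⟩
  · exact good_ab h fun x hx y hy => congrArg Subtype.val (hc.isMulCommutative.is_comm.comm (⟨x, hx⟩ : A) ⟨y, hy⟩)
  · exact good_dih h e
  · exact good_bor p h h1 P hP
  · exact good_A4 h e
  · exact good_S4 p e
  · exact good_A5 p h4 e
  · by_cases h3 : Fintype.card K = 3
    · obtain ⟨e'⟩ := Cfsg.Agent.S0251.result h3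
      exact good_A4 h (e.trans e')
    · exact good_sub p hm h3 e.symm.toMonoidHom e.symm.injective (by
        rw [MonoidHom.range_eq_top.2 (show Function.Surjective e.symm.toMonoidHom from e.symm.surjective)]
        infer_instance)
  · by_cases h3 : Fintype.card K = 3
    · obtain ⟨e'⟩ := H281.Reg.pgl_three h3
      exact good_S4 p (e.trans e')
    · refine good_sub p hm h3 (e.symm.toMonoidHom.comp Matrix.ProjectiveSpecialLinearGroup.toPGL)
        (e.symm.injective.comp Matrix.ProjectiveSpecialLinearGroup.toPGL_injective) ?_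
      rw [MonoidHom.range_comp]
      exact (normal_toPGL K).map _ e.symm.surjective

/-- the family `PSL₂(q)`, `q ≥ 4` -/
def fL2 : Fam := fun T _ => ∃ (F : Type) (_ : Field F) (_ : Fintype F), 4 ≤ Fintype.card F ∧
  Nonempty (T ≃* Matrix.ProjectiveSpecialLinearGroup (Fin 2) F)

theorem row_L2 : Row fL2 := fun _ _ _ _ _ ⟨F, _, _, h4, ⟨e⟩⟩ => asRow_congr e.symm (as_psl2 F h4)

end Cfsg.Agent.N2
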