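import Cfsg.Agent.N2.Tool
import Cfsg.Agent.H853.Fx.PslC

/-!
# N2 (S3519), `T = PSL₂(q)`: commuting elements, centralisers and fusion (helper61)
-/

set_option autoImplicit false
set_option linter.unusedSectionVars false

namespace Cfsg.Agent.N2.L2

open Cfsg.Agent.FP3 Subgroup Matrix Cfsg.Agent.H158.PslTwoClass Cfsg.Agent.ClassicalGeometry

/-- the group `PSL₂(F)` -/
abbrev PL (F : Type*) [Field F] : Type _ := Matrix.ProjectiveSpecialLinearGroup (Fin 2) F

/-- the group `SL₂(F)` -/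
abbrev SL2 (F : Type*) [Field F] : Type _ := Matrix.SpecialLinearGroup (Fin 2) F

variable {F : Type*} [Field F]

/-- not an involution in odd characteristic -/
def Nz (x : PL F) : Prop := x * x ≠ 1 ∨ (2 : F) = 0

theorem Nz.conj {x : PL F} (h : Nz x) {y : PL F} (hy : orderOf y = orderOf x) : Nz y := by
  rcases h with h | h
  · refine Or.inl fun k => h ?_
    rw [← pow_two, ← orderOf_dvd_iff_pow_eq_one] at k ⊢
    rwa [← hy]
  · exact Or.inr h

theorem mk_neg (X : SL2 F) : (QuotientGroup.mk (-X) : PL F) = QuotientGroup.mk X := by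
  rw [QuotientGroup.eq, PSL2Basic.mem_center_SL2_iff]
  right
  rw [inv_neg, neg_mul, inv_mul_cancel]

theorem tr_of_nz {X : SL2 F} (h : Nz (QuotientGroup.mk X : PL F)) : (2 : F) = 0 ∨ X.1 0 0 + X.1 1 1 ≠ 0 := by
  rcases h with h | h
  · refine Or.inr fun k => h ?_
    rw [← QuotientGroup.mk_mul, mul_self_of_trace k, mk_neg, QuotientGroup.mk_one]
  · exact Or.inl h

theorem lift_comm {X Y : SL2 F} (h : Commute (QuotientGroup.mk X : PL F) (QuotientGroup.mk Y))
    (hn : Nz (QuotientGroup.mk X : PL F)) : X * Y = Y * X := by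
  have h1 : Y ∈ pre X := by
    unfold pre
    rw [mem_comap, mem_centralizer_singleton_iff]
    exact h.eq.symm
  rw [pre_eq (tr_of_nz hn), mem_centralizer_singleton_iff] at h1
  exact h1.symm

theorem not_scalar {Z : SL2 F} (h : (QuotientGroup.mk Z : PL F) ≠ 1) (c : F) : Z.1 ≠ c • 1 := by
  intro k
  apply h
  rw [QuotientGroup.eq_one_iff, mem_center_iff]
  intro g
  apply Subtype.ext
  rw [Matrix.SpecialLinearGroup.coe_mul, Matrix.SpecialLinearGroup.coe_mul]
  change g.1 * Z.1 = Z.1 * g.1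
  rw [k, Matrix.mul_smul, Matrix.smul_mul, Matrix.mul_one, Matrix.one_mul]

/-- a matrix which commutes with a non-scalar matrix -/
theorem exists_lin {X Z : Matrix (Fin 2) (Fin 2) F} (hZ : ∀ c : F, Z ≠ c • 1) (h : X * Z = Z * X) :
    ∃ α β : F, X = α • Z + β • 1 := by
  have e00 := congrFun (congrFun h 0) 0
  have e01 := congrFun (congrFun h 0) 1
  have e10 := congrFun (congrFun h 1) 0
  simp only [Matrix.mul_apply, Fin.sum_univ_two] at e00 e01 e10
  by_cases hb : Z 0 1 = 0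
  · by_cases hc : Z 1 0 = 0
    · have hd : Z 0 0 - Z 1 1 ≠ 0 := fun k => hZ (Z 0 0) (by
        ext i j
        fin_cases i <;> fin_cases j <;> simp [hb, hc]
        linear_combination -k)
      refine ⟨(X 0 0 - X 1 1) / (Z 0 0 - Z 1 1), X 0 0 - (X 0 0 - X 1 1) / (Z 0 0 - Z 1 1) * Z 0 0, ?_⟩
      have x1 : X 0 1 = 0 := by
        have : X 0 1 * (Z 0 0 - Z 1 1) = 0 := by rw [hb] at e01; linear_combination -e01
        exact (mul_eq_zero.1 this).resolve_right hd
      have x2 : X 1 0 = 0 := by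
        have : X 1 0 * (Z 0 0 - Z 1 1) = 0 := by rw [hc] at e10; linear_combination e10
        exact (mul_eq_zero.1 this).resolve_right hd
      ext i j
      fin_cases i <;> fin_cases j <;> simp [hb, hc, x1, x2]
      field_simp
      ring
    · refine ⟨X 1 0 / Z 1 0, X 0 0 - X 1 0 / Z 1 0 * Z 0 0, ?_⟩
      ext i j
      fin_cases i <;> fin_cases j <;> simp
      · field_simp
        linear_combination e00
      · field_simp
      · field_simp
        linear_combination e10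
  · refine ⟨X 0 1 / Z 0 1, X 0 0 - X 0 1 / Z 0 1 * Z 0 0, ?_⟩
    ext i j
    fin_cases i <;> fin_cases j <;> simp
    · field_simp
    · field_simp
      linear_combination -e00
    · field_simp
      linear_combination -e01

/-- two elements which commute with a third one -/
theorem comm_of {z u v : PL F} (hz : z ≠ 1) (hu : Commute u z) (hv : Commute v z) (hn : Nz z ∨ (Nz u ∧ Nz v)) :
    Commute u v := by
  obtain ⟨Z, rfl⟩ := QuotientGroup.mk_surjective z
  obtain ⟨U, rfl⟩ := QuotientGroup.mk_surjective u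
  obtain ⟨V, rfl⟩ := QuotientGroup.mk_surjective v
  have h1 : U * Z = Z * U := hn.elim (fun k => (lift_comm hu.symm k).symm) fun k => lift_comm hu k.1
  have h2 : V * Z = Z * V := hn.elim (fun k => (lift_comm hv.symm k).symm) fun k => lift_comm hv k.2
  obtain ⟨a, b, e1⟩ := exists_lin (not_scalar hz) (X := U.1) (congrArg Subtype.val h1)
  obtain ⟨c, d, e2⟩ := exists_lin (not_scalar hz) (X := V.1) (congrArg Subtype.val h2)
  have h3 : U * V = V * U := by
    apply Subtype.ext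
    change U.1 * V.1 = V.1 * U.1
    rw [e1, e2]
    simp only [Matrix.add_mul, Matrix.mul_add, Matrix.smul_mul, Matrix.mul_smul, Matrix.mul_one, Matrix.one_mul, smul_add,
      smul_smul]
    rw [mul_comm a c, mul_comm b c, mul_comm a d, mul_comm b d]
    abel
  show QuotientGroup.mk (U * V) = QuotientGroup.mk (V * U)
  rw [h3]

/-- unipotent elements -/
theorem unip_pow (p : ℕ) [Fact p.Prime] [CharP F p] {X : SL2 F} {r : F} (hr : r * r = 1) (ht : X.1 0 0 + X.1 1 1 = 2 * r) :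
    (QuotientGroup.mk X : PL F) ^ p = 1 := by
  have hp : p.Prime := Fact.out
  have h1 : (X.1 - r • 1) * (X.1 - r • 1) = 0 := by
    have h2 := PSL2Basic.sl2_mul_self X
    rw [trace_fin_two] at h2
    change X.1 * X.1 = (X.1 0 0 + X.1 1 1) • X.1 - 1 at h2
    rw [ht] at h2
    simp only [Matrix.sub_mul, Matrix.mul_sub, Matrix.smul_mul, Matrix.mul_smul, Matrix.mul_one, Matrix.one_mul, smul_sub,
      smul_smul, hr, one_smul, h2]
    module
  have h2 : (X.1 - r • 1) ^ p = 0 := by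
    obtain ⟨k, hk⟩ : ∃ k, p = k + 2 := ⟨p - 2, by have := hp.two_le; omega⟩
    rw [hk, pow_add, pow_two, h1, mul_zero]
  have h3 : X.1 ^ p = (r ^ p) • (1 : Matrix (Fin 2) (Fin 2) F) := by
    have h4 : Commute (X.1 - r • 1) (r • (1 : Matrix (Fin 2) (Fin 2) F)) := (Commute.one_right _).smul_right r
    have h5 := add_pow_char_of_commute p h4
    rw [sub_add_cancel, h2, zero_add, smul_pow, one_pow] at h5
    exact h5
  by_contra k
  rw [← QuotientGroup.mk_pow] at k
  exact not_scalar k (r ^ p) (by rw [← h3]; exact Matrix.SpecialLinearGroup.coe_pow X p)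

/-- a conjugate of a semisimple element which commutes with it -/
theorem eq_or_inv (p : ℕ) [Fact p.Prime] [CharP F p] {x y : PL F} (h2 : x * x ≠ 1) (hp : x ^ p ≠ 1) (hc : IsConj x y)
    (h : Commute x y) : y = x ∨ y = x⁻¹ := by
  obtain ⟨t, rfl⟩ := isConj_iff.1 hc
  obtain ⟨X, rfl⟩ := QuotientGroup.mk_surjective x
  obtain ⟨T, rfl⟩ := QuotientGroup.mk_surjective t
  rw [← QuotientGroup.mk_mul, ← QuotientGroup.mk_inv, ← QuotientGroup.mk_mul] at h ⊢
  obtain ⟨Y, hY⟩ : ∃ Y, Y = T * X * T⁻¹ := ⟨_, rfl⟩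
  rw [← hY] at h ⊢
  have htr : Y.1 0 0 + Y.1 1 1 = X.1 0 0 + X.1 1 1 := by
    rw [← trace_fin_two, ← trace_fin_two, hY]
    change trace (T.1 * X.1 * (T⁻¹).1) = _
    rw [trace_mul_cycle]
    have : (T⁻¹).1 * T.1 = 1 := congrArg Subtype.val (inv_mul_cancel T)
    rw [this, Matrix.one_mul]
  have h1 : X * Y = Y * X := lift_comm h (Or.inl h2)
  have hx1 : (QuotientGroup.mk X : PL F) ≠ 1 := fun k => h2 (by rw [k, one_mul])
  obtain ⟨a, b, e⟩ := exists_lin (not_scalar hx1) (X := Y.1) (congrArg Subtype.val h1.symm)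
  have dX : X.1 0 0 * X.1 1 1 - X.1 0 1 * X.1 1 0 = 1 := by rw [← Matrix.det_fin_two]; exact X.2
  have dY : Y.1 0 0 * Y.1 1 1 - Y.1 0 1 * Y.1 1 0 = 1 := by rw [← Matrix.det_fin_two]; exact Y.2
  have y00 : Y.1 0 0 = a * X.1 0 0 + b := by rw [e]; simp
  have y01 : Y.1 0 1 = a * X.1 0 1 := by rw [e]; simp
  have y10 : Y.1 1 0 = a * X.1 1 0 := by rw [e]; simp
  have y11 : Y.1 1 1 = a * X.1 1 1 + b := by rw [e]; simp
  obtain ⟨τ, hτ⟩ : ∃ τ, τ = X.1 0 0 + X.1 1 1 := ⟨_, rfl⟩
  have k1 : a * τ + 2 * b = τ := by rw [y00, y11] at htr; rw [hτ]; linear_combination htr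
  have k2 : a ^ 2 + a * b * τ + b ^ 2 = 1 := by
    rw [y00, y01, y10, y11] at dY
    rw [hτ]
    linear_combination dY - a ^ 2 * dX
  have k3 : τ ^ 2 - 4 ≠ 0 := by
    intro k
    have k4 : (τ - 2) * (τ + 2) = 0 := by linear_combination k
    rcases mul_eq_zero.1 k4 with k5 | k5
    · exact hp (unip_pow p (r := 1) (by ring) (by rw [← hτ]; linear_combination k5))
    · exact hp (unip_pow p (r := -1) (by ring) (by rw [← hτ]; linear_combination k5))
  have k4 : a ^ 2 = 1 := by
    have : (a ^ 2 - 1) * (τ ^ 2 - 4) = 0 := by linear_combination (a * τ + 2 * b + τ) * k1 - 4 * k2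
    linear_combination (mul_eq_zero.1 this).resolve_right k3
  have k5 : b * (a * τ + b) = 0 := by linear_combination k2 - k4
  have ka : (a - 1) * (a + 1) = 0 := by linear_combination k4
  have hinv : (X⁻¹).1 = !![X.1 1 1, -X.1 0 1; -X.1 1 0, X.1 0 0] := by
    rw [Matrix.SpecialLinearGroup.SL2_inv_expl]
    rfl
  rcases mul_eq_zero.1 k5 with k6 | k6 <;> rcases mul_eq_zero.1 ka with k7 | k7
  · left
    congr 1
    apply Subtype.ext
    rw [e, k6, show a = 1 by linear_combination k7, one_smul, zero_smul, add_zero]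
  · left
    rw [← mk_neg X]
    congr 1
    apply Subtype.ext
    rw [e, k6, show a = -1 by linear_combination k7, zero_smul, add_zero, neg_smul, one_smul]
    rfl
  · right
    rw [← QuotientGroup.mk_inv, ← mk_neg X⁻¹]
    congr 1
    apply Subtype.ext
    have ea : a = 1 := by linear_combination k7
    have eb : b = -τ := by rw [ea] at k6; linear_combination k6
    rw [Matrix.SpecialLinearGroup.coe_neg, hinv]
    ext i j
    fin_cases i <;> fin_cases j <;> simp [y00, y01, y10, y11, ea, eb, hτ]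
  · right
    rw [← QuotientGroup.mk_inv]
    congr 1
    apply Subtype.ext
    have ea : a = -1 := by linear_combination k7
    have eb : b = τ := by rw [ea] at k6; linear_combination k6
    rw [hinv]
    ext i j
    fin_cases i <;> fin_cases j <;> simp [y00, y01, y10, y11, ea, eb, hτ]

variable [Fintype F]

/-- the centraliser of a semisimple element -/
theorem cn_le (p : ℕ) [Fact p.Prime] [CharP F p] {x : PL F} (h2 : x * x ≠ 1) (hp : x ^ p ≠ 1) :
    cn x * Nat.gcd 2 (Fintype.card F - 1) ≤ Fintype.card F + 1 := by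
  obtain ⟨X, rfl⟩ := QuotientGroup.mk_surjective x
  have hx1 : (QuotientGroup.mk X : PL F) ≠ 1 := fun k => h2 (by rw [k, one_mul])
  have h1 := (centralizer ({(QuotientGroup.mk X : PL F)} : Set (PL F))).card_mul_index
  have h3 := PSL2Basic.card_PSL2_gcd F
  rw [index_pre] at h1
  rw [← h1, sq_sub_one _ Fintype.card_pos] at h3
  have hq : 1 < Fintype.card F := Fintype.one_lt_card
  unfold cn
  generalize Nat.card (centralizer ({(QuotientGroup.mk X : PL F)} : Set (PL F))) = c at h3 ⊢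
  generalize Nat.gcd 2 (Fintype.card F - 1) = d at h3 ⊢
  rcases cases_t (X.1 0 0 + X.1 1 1) with ⟨r, a1, a2, a3⟩ | ⟨r, a1, a2⟩ | a1
  · rw [index_split (not_scalar hx1) (tr_of_nz (Or.inl h2)) a1 a2 a3] at h3
    have h4 : c * d * (Fintype.card F * (Fintype.card F + 1)) =
        (Fintype.card F - 1) * (Fintype.card F * (Fintype.card F + 1)) := by linear_combination h3
    have h5 := Nat.eq_of_mul_eq_mul_right (by positivity) h4
    omega
  · exact absurd (unip_pow p a1 a2) hp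
  · rw [index_irr (not_scalar hx1) (tr_of_nz (Or.inl h2)) a1] at h3
    have h4 : c * d * (Fintype.card F * (Fintype.card F - 1)) =
        (Fintype.card F + 1) * (Fintype.card F * (Fintype.card F - 1)) := by linear_combination h3
    have h5 := Nat.eq_of_mul_eq_mul_right (Nat.mul_pos (by omega) (by omega)) h4
    omega

theorem exists_pp {G : Type*} [Group G] [Finite G] {a : G} (h : a * a ≠ 1) :
    ∃ r k n : ℕ, r.Prime ∧ a ^ k * a ^ k ≠ 1 ∧ orderOf (a ^ k) = r ^ n := by
  by_cases ho : ∃ r, r.Prime ∧ r ∣ orderOf a ∧ r ≠ 2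
  · obtain ⟨r, hr, ⟨k, hk⟩, h2⟩ := ho
    have hk0 : k ≠ 0 := by
      rintro rfl
      exact (orderOf_pos a).ne' hk
    have h1 : orderOf (a ^ k) = r := by
      rw [orderOf_pow_of_dvd hk0 ⟨r, by rw [hk, mul_comm]⟩, hk, Nat.mul_div_cancel _ (Nat.pos_of_ne_zero hk0)]
    refine ⟨r, k, 1, hr, fun e => h2 ?_, by rw [h1, pow_one]⟩
    rw [← pow_two, ← orderOf_dvd_iff_pow_eq_one, h1] at e
    exact (Nat.prime_dvd_prime_iff_eq hr Nat.prime_two).1 e
  · have h1 := Nat.eq_prime_pow_of_unique_prime_dvd (p := 2) (orderOf_pos a).ne'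
      fun hd hdv => by_contra fun k => ho ⟨_, hd, hdv, k⟩
    exact ⟨2, 1, _, Nat.prime_two, by rwa [pow_one], by rw [pow_one]; exact h1⟩

/-- two elements of a subgroup of prime power order have a common centralising element -/
theorem exists_cen {G : Type*} [Group G] [Finite G] {r : ℕ} [Fact r.Prime] {S : Subgroup G} (hS : IsPGroup r S) {x : G}
    (hx : x ∈ S) (h1 : x ≠ 1) : ∃ z : G, z ≠ 1 ∧ ∀ y ∈ S, Commute y z := by
  have : Nontrivial S := ⟨⟨⟨x, hx⟩, 1, fun k => h1 (congrArg Subtype.val k)⟩⟩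
  have := hS.center_nontrivial
  obtain ⟨z, hz⟩ := exists_ne (1 : center S)
  refine ⟨z.1.1, fun k => hz (Subtype.ext (Subtype.ext k)), fun y hy => ?_⟩
  exact congrArg Subtype.val (mem_center_iff.1 z.2 ⟨y, hy⟩)

/-- **fusion**: the conjugates in a subgroup of a semisimple element -/
theorem fus (p : ℕ) [Fact p.Prime] [CharP F p] {A : Subgroup (PL F)} {a g : PL F} (ha : a ∈ A) (hg : g ∈ A)
    (h2 : a * a ≠ 1) (hp : a ^ p ≠ 1) (hc : IsConj a g) : ∃ b ∈ A, b * g * b⁻¹ = a ∨ b * g * b⁻¹ = a⁻¹ := by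
  obtain ⟨r, k, n, hr, k2, kn⟩ := exists_pp h2
  have : Fact r.Prime := ⟨hr⟩
  obtain ⟨t, ht⟩ := isConj_iff.1 hc
  have ho : orderOf (g ^ k) = orderOf (a ^ k) := by
    rw [← ht, conj_pow]
    exact (MulAut.conj t).orderOf_eq (a ^ k)
  have p1 : IsPGroup r (zpowers (⟨a, ha⟩ ^ k : A)) :=
    IsPGroup.of_card (n := n) (by rw [Nat.card_zpowers, ← Subgroup.orderOf_coe]; exact kn)
  have p2 : IsPGroup r (zpowers (⟨g, hg⟩ ^ k : A)) :=
    IsPGroup.of_card (n := n) (by rw [Nat.card_zpowers, ← Subgroup.orderOf_coe]; exact ho.trans kn)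
  obtain ⟨S1, s1⟩ := p1.exists_le_sylow
  obtain ⟨S2, s2⟩ := p2.exists_le_sylow
  obtain ⟨b, hb⟩ := MulAction.exists_smul_eq A S2 S1
  have m1 : (⟨a, ha⟩ ^ k : A) ∈ (S1 : Subgroup A) := s1 (mem_zpowers _)
  have m2 : b * (⟨g, hg⟩ ^ k : A) * b⁻¹ ∈ (S1 : Subgroup A) := by
    rw [← hb]
    exact ⟨_, s2 (mem_zpowers _), rfl⟩
  have n1 : a ^ k ≠ 1 := fun e => k2 (by rw [e, one_mul])
  obtain ⟨z, hz, hzc⟩ := exists_cen S1.isPGroup' m1 fun e => n1 (congrArg Subtype.val e)
  have c1 : Commute (a ^ k) (z : PL F) := congrArg Subtype.val (hzc _ m1)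
  have c2 : Commute (((b : PL F) * g * (b : PL F)⁻¹) ^ k) (z : PL F) := by
    rw [conj_pow]
    exact congrArg Subtype.val (hzc _ m2)
  have o1 : orderOf ((b : PL F) * g * (b : PL F)⁻¹) = orderOf a := by
    rw [← ht]
    exact ((MulAut.conj (b : PL F)).orderOf_eq _).trans ((MulAut.conj t).orderOf_eq a)
  have o2 : orderOf (((b : PL F) * g * (b : PL F)⁻¹) ^ k) = orderOf (a ^ k) := by
    rw [conj_pow]
    exact ((MulAut.conj (b : PL F)).orderOf_eq _).trans ho
  have z1 : Nz (a ^ k) := Or.inl k2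
  have z2 : Nz (((b : PL F) * g * (b : PL F)⁻¹) ^ k) := z1.conj o2
  have c3 : Commute (a ^ k) (((b : PL F) * g * (b : PL F)⁻¹) ^ k) :=
    comm_of (fun e => hz (Subtype.ext e)) c1 c2 (Or.inr ⟨z1, z2⟩)
  have c4 : Commute a (((b : PL F) * g * (b : PL F)⁻¹) ^ k) := comm_of n1 (Commute.self_pow a k) c3.symm (Or.inl z1)
  have n2 : ((b : PL F) * g * (b : PL F)⁻¹) ^ k ≠ 1 := fun e => n1 (by rw [← orderOf_eq_one_iff, ← o2, e, orderOf_one])
  have c5 : Commute a ((b : PL F) * g * (b : PL F)⁻¹) := comm_of n2 c4 (Commute.self_pow _ k) (Or.inl z2)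
  exact ⟨b, b.2, eq_or_inv p h2 hp (hc.trans (isConj_iff.2 ⟨b, rfl⟩)) c5⟩

end Cfsg.Agent.N2.L2
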